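import Groth.Agent.SymTr.Basic

/-!
Trace on the symmetric tensors of a free module; triangular bases; the universal matrix.
-/

set_option autoImplicit false
universe u

namespace Groth.Agent.SymTr

open scoped TensorProduct

variable {A : Type u} [CommRing A] {M : Type u} [AddCommGroup M] [Module A M] {m n : ℕ}
  (b : Module.Basis (Fin m) A M)

/-- The basis of the tensor power. -/
noncomputable abbrev tb (n : ℕ) : Module.Basis (Fin n → Fin m) A (⨂[A] _i : Fin n, M) :=
  Basis.piTensorProduct fun _ : Fin n => b

variable (A M) in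
/-- Symmetric tensors. -/
noncomputable abbrev fixedT (n : ℕ) : Submodule A (⨂[A] _i : Fin n, M) :=
  ⨅ σ : Equiv.Perm (Fin n),
    LinearMap.eqLocus ((PiTensorProduct.reindex A (fun _ : Fin n => M) σ).toLinearMap) LinearMap.id

theorem repr_reindex (σ : Equiv.Perm (Fin n)) (x : ⨂[A] _i : Fin n, M) (w : Fin n → Fin m) :
    (tb b n).repr (PiTensorProduct.reindex A (fun _ : Fin n => M) σ x) w = (tb b n).repr x (w ∘ σ) := by
  induction x using PiTensorProduct.induction_on with
  | smul_tprod r f =>
    rw [map_smul, map_smul, map_smul, PiTensorProduct.reindex_tprod, Finsupp.smul_apply, Finsupp.smul_apply,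
      Basis.piTensorProduct_repr_tprod_apply, Basis.piTensorProduct_repr_tprod_apply]
    congr 1
    exact (Equiv.prod_comp σ fun i => (b.repr (f (σ.symm i))) (w i)).symm.trans
      (Finset.prod_congr rfl fun i _ => by simp)
  | add x y hx hy => simp only [map_add, Finsupp.add_apply, hx, hy]

theorem mem_fixedT_iff {x : ⨂[A] _i : Fin n, M} :
    x ∈ fixedT A M n ↔ ∀ w v, cls w = cls v → (tb b n).repr x w = (tb b n).repr x v := by
  simp only [Submodule.mem_iInf, LinearMap.mem_eqLocus, LinearEquiv.coe_coe, LinearMap.id_apply]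
  constructor
  · intro h w v hwv
    obtain ⟨σ, rfl⟩ := exists_perm hwv
    rw [← repr_reindex, h σ]
  · intro h σ
    refine (tb b n).repr.injective (Finsupp.ext fun w => ?_)
    rw [repr_reindex]
    exact h _ _ (cls_comp w σ)

/-- Symmetric tensors in coordinates. -/
noncomputable def coords (n : ℕ) : fixedT A M n ≃ₗ[A] (Sym (Fin m) n → A) where
  toFun x s := (tb b n).repr x.1 (rep s)
  map_add' x y := funext fun s => by simp
  map_smul' r x := funext fun s => by simp
  invFun c := ⟨(tb b n).equivFun.symm fun w => c (cls w), (mem_fixedT_iff b).mpr fun w v h => by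
    rw [← Module.Basis.equivFun_apply, LinearEquiv.apply_symm_apply]; simp only [h]⟩
  left_inv x := Subtype.ext ((tb b n).equivFun.injective (funext fun w => by
    simp only [LinearEquiv.apply_symm_apply]
    exact (mem_fixedT_iff b).mp x.2 _ _ (cls_rep _)))
  right_inv c := funext fun s => by
    simp only [← Module.Basis.equivFun_apply, LinearEquiv.apply_symm_apply, cls_rep]

theorem repr_map (u : M →ₗ[A] M) (x : ⨂[A] _i : Fin n, M) (v : Fin n → Fin m) :
    (tb b n).repr (PiTensorProduct.map (fun _ : Fin n => u) x) v =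
      ∑ w, (tb b n).repr x w * ∏ i, LinearMap.toMatrix b b u (v i) (w i) := by
  conv_lhs => rw [← (tb b n).sum_repr x]
  simp only [map_sum, map_smul, Finsupp.coe_finset_sum, Finset.sum_apply, Finsupp.smul_apply, smul_eq_mul]
  refine Finset.sum_congr rfl fun w _ => ?_
  rw [Basis.piTensorProduct_apply, PiTensorProduct.map_tprod, Basis.piTensorProduct_repr_tprod_apply]
  exact congrArg _ (Finset.prod_congr rfl fun i _ => (LinearMap.toMatrix_apply _ _ _ _ _).symm)

theorem trace_eq (u : M →ₗ[A] M) (n : ℕ) (γ : fixedT A M n →ₗ[A] fixedT A M n)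
    (hγ : ∀ x : fixedT A M n, (γ x : ⨂[A] _i : Fin n, M) =
      PiTensorProduct.map (fun _ : Fin n => u) (x : ⨂[A] _i : Fin n, M)) :
    LinearMap.trace A _ γ = T (LinearMap.toMatrix b b u) n := by
  let B := Module.Basis.ofEquivFun (coords b n)
  rw [LinearMap.trace_eq_matrix_trace A B, Matrix.trace, T]
  refine Finset.sum_congr rfl fun s _ => ?_
  rw [Matrix.diag_apply, LinearMap.toMatrix_apply, Module.Basis.ofEquivFun_repr_apply]
  show (tb b n).repr (γ (B s)).1 (rep s) = _
  rw [hγ, repr_map, Finset.sum_filter]
  refine Finset.sum_congr rfl fun w _ => ?_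
  have hw : (tb b n).repr (B s).1 w = if cls w = s then 1 else 0 := by
    rw [show B s = (coords b n).symm (Pi.single s (1 : A)) from congrFun (Module.Basis.coe_ofEquivFun (coords b n)) s]
    show (tb b n).repr ((tb b n).equivFun.symm fun w => (Pi.single s 1 : Sym (Fin m) n → A) (cls w)) w = _
    rw [← Module.Basis.equivFun_apply, LinearEquiv.apply_symm_apply, Pi.single_apply]
  rw [hw]
  split_ifs <;> simp

theorem detOneSub_eq (u : M →ₗ[A] M) :
    LinearMap.det (LinearMap.id - (Polynomial.X : Polynomial A) • u.baseChange (Polynomial A)) =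
      (LinearMap.toMatrix b b u).charpolyRev := by
  rw [← LinearMap.det_toMatrix (b.baseChange (Polynomial A))]
  rw [Matrix.charpolyRev]
  congr 1
  ext i j : 2
  rw [Matrix.sub_apply, Matrix.smul_apply, Matrix.map_apply, LinearMap.toMatrix_apply, LinearMap.toMatrix_apply]
  simp [Matrix.one_apply, Finsupp.single_apply, eq_comm, Algebra.smul_def, Polynomial.algebraMap_eq,
    Polynomial.coeff_C_mul, mul_comm Polynomial.X]

theorem master_of_basis (b' : Module.Basis (Fin m) A M) (u : M →ₗ[A] M)
    (h : Master (LinearMap.toMatrix b' b' u)) : Master (LinearMap.toMatrix b b u) := by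
  have hmap : ∀ n, ∀ x ∈ fixedT A M n, PiTensorProduct.map (fun _ : Fin n => u) x ∈ fixedT A M n := by
    intro n x hx
    simp only [Submodule.mem_iInf, LinearMap.mem_eqLocus, LinearEquiv.coe_coe, LinearMap.id_apply] at hx ⊢
    intro σ
    have := LinearMap.congr_fun (PiTensorProduct.map_comp_reindex_eq (R := A) (fun _ : Fin n => u) σ) x
    simp only [LinearMap.comp_apply, LinearEquiv.coe_coe] at this
    rw [← this, hx σ]
  have e : ∀ n, T (LinearMap.toMatrix b b u) n = T (LinearMap.toMatrix b' b' u) n := fun n =>
    (trace_eq b u n ((PiTensorProduct.map fun _ : Fin n => u).restrict (hmap n)) fun _ => rfl).symm.trans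
      (trace_eq b' u n ((PiTensorProduct.map fun _ : Fin n => u).restrict (hmap n)) fun _ => rfl)
  rw [Master, ← detOneSub_eq, detOneSub_eq b', show T (LinearMap.toMatrix b b u) = T (LinearMap.toMatrix b' b' u)
    from funext e]
  exact h

end Groth.Agent.SymTr

namespace Groth.Agent.SymTr

theorem exists_triangular_basis {K : Type u} [Field K] [IsAlgClosed K] :
    ∀ (m : ℕ) {V : Type u} [AddCommGroup V] [Module K V] [Module.Finite K V],
      Module.finrank K V = m → ∀ u : V →ₗ[K] V,
        ∃ b : Module.Basis (Fin m) K V, (LinearMap.toMatrix b b u).BlockTriangular id := by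
  intro m
  induction m with
  | zero =>
    intro V _ _ _ hV u
    exact ⟨Module.finBasisOfFinrankEq K V hV, fun i => i.elim0⟩
  | succ m ih =>
    intro V _ _ _ hV u
    haveI : Nontrivial V := Module.nontrivial_of_finrank_eq_succ hV
    obtain ⟨c, hc⟩ := Module.End.exists_eigenvalue u
    obtain ⟨v, hv⟩ := hc.exists_hasEigenvector
    obtain ⟨N, hN⟩ := Submodule.exists_isCompl (Submodule.span K {v})
    have hfin : Module.finrank K N = m := by
      have := Submodule.finrank_add_eq_of_isCompl hN
      rw [finrank_span_singleton hv.2, hV] at this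
      omega
    let p : V →ₗ[K] N := N.projectionOnto _ hN.symm
    obtain ⟨bN, hbN⟩ := ih hfin (p ∘ₗ u ∘ₗ N.subtype)
    have hpv : p v = 0 := Submodule.projectionOnto_apply_of_mem_right _ (Submodule.mem_span_singleton_self v)
    have hpN : ∀ y : N, p y = y := fun y => Submodule.projectionOnto_apply_left hN.symm y
    let b : Module.Basis (Fin (m + 1)) K V := Module.Basis.mkFinCons v bN
      (fun r x hx h => by
        have := congrArg p h
        rw [map_add, map_smul, hpv, smul_zero, zero_add, show x = ((⟨x, hx⟩ : N) : V) from rfl, hpN, map_zero] at this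
        by_contra hr
        have hx0 : x = 0 := congrArg Subtype.val this
        rw [hx0, add_zero, smul_eq_zero] at h
        exact h.elim hr hv.2)
      (fun z => by
        obtain ⟨y, hy, w, hw, rfl⟩ := Submodule.mem_sup.mp
          (hN.sup_eq_top.symm ▸ Submodule.mem_top (x := z) : z ∈ Submodule.span K {v} ⊔ N)
        obtain ⟨a, rfl⟩ := Submodule.mem_span_singleton.mp hy
        exact ⟨-a, by simpa using hw⟩)
    have hrepr : ∀ (z : V) (i : Fin m), b.repr z i.succ = bN.repr (p z) i := by
      intro z i
      conv_rhs => rw [← b.sum_repr z]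
      rw [Fin.sum_univ_succ, Module.Basis.coe_mkFinCons]
      simp only [Fin.cons_zero, Fin.cons_succ, Function.comp_apply, map_add, map_sum, map_smul, hpv, smul_zero,
        zero_add, hpN, Module.Basis.repr_self, Finsupp.coe_finset_sum, Finset.sum_apply, Finsupp.smul_apply,
        Finsupp.single_apply, smul_eq_mul, mul_ite, mul_one, mul_zero, Finset.sum_ite_eq', Finset.mem_univ, if_true]
    refine ⟨b, fun i j hij => ?_⟩
    obtain ⟨i, rfl⟩ : ∃ i', i = Fin.succ i' :=
      Fin.exists_succ_eq.mpr (Fin.pos_iff_ne_zero.mp (lt_of_le_of_lt (Fin.zero_le _) hij)) |>.imp fun _ h => h.symm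
    rw [LinearMap.toMatrix_apply, hrepr, show (b : Fin (m + 1) → V) = Fin.cons v (N.subtype ∘ bN) from
      Module.Basis.coe_mkFinCons _ _ _ _]
    induction j using Fin.cases with
    | zero =>
      rw [Fin.cons_zero, Module.End.mem_eigenspace_iff.mp hv.1, map_smul, hpv, smul_zero, map_zero,
        Finsupp.zero_apply]
    | succ j =>
      have := hbN (i := i) (j := j) (Fin.succ_lt_succ_iff.mp hij)
      rw [LinearMap.toMatrix_apply] at this
      exact this

theorem master (m : ℕ) {A : Type*} [CommRing A] (U : Matrix (Fin m) (Fin m) A) : Master U := by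
  have key : ∀ (K : Type) [Field K] [IsAlgClosed K] (U : Matrix (Fin m) (Fin m) K), Master U := by
    intro K _ _ U
    obtain ⟨b, hb⟩ := exists_triangular_basis m (V := Fin m → K) (Module.finrank_fin_fun K) (Matrix.toLin' U)
    have := master_of_basis (Pi.basisFun K (Fin m)) b (Matrix.toLin' U) (master_triangular hb)
    rwa [← Matrix.toLin_eq_toLin', LinearMap.toMatrix_toLin] at this
  let R := MvPolynomial (Fin m × Fin m) ℤ
  let U₀ : Matrix (Fin m) (Fin m) R := Matrix.of fun i j => MvPolynomial.X (i, j)
  let L := AlgebraicClosure (FractionRing R)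
  have h0 : Master U₀ := Master.of_map (algebraMap R L)
    ((algebraMap (FractionRing R) L).injective.comp (IsFractionRing.injective R (FractionRing R))) (key L _)
  have h1 := h0.map (MvPolynomial.eval₂Hom (Int.castRingHom A) fun q => U q.1 q.2)
  convert h1 using 1
  ext i j
  simp [U₀]

end Groth.Agent.SymTr
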