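import Mathlib

/-!
The trace on symmetric tensors and MacMahon's master theorem.
-/

set_option autoImplicit false
universe u

namespace Groth.Agent.SymTr

open scoped TensorProduct

variable {ι : Type} [Fintype ι] [DecidableEq ι] {n : ℕ}

/-- The letters of a word, with multiplicity. -/
def cls (w : Fin n → ι) : Sym ι n := ⟨Finset.univ.val.map w, by simp⟩

theorem cls_comp (w : Fin n → ι) (σ : Equiv.Perm (Fin n)) : cls (w ∘ σ) = cls w := by
  refine Subtype.ext ?_
  show Finset.univ.val.map (w ∘ σ) = Finset.univ.val.map w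
  rw [← Multiset.map_map, Multiset.map_univ_val_equiv σ]

theorem exists_perm {w v : Fin n → ι} (h : cls w = cls v) : ∃ σ : Equiv.Perm (Fin n), v ∘ σ = w := by
  have hc : ∀ c : ι, Fintype.card {i // w i = c} = Fintype.card {i // v i = c} := fun c => by
    have h' := congrArg (fun s : Sym ι n => Multiset.count c (s : Multiset ι)) h
    simp only [cls, Sym.coe_mk, Multiset.count_map] at h'
    rw [Fintype.card_subtype, Fintype.card_subtype]
    simp only [eq_comm (a := c)] at h'
    exact h'
  exact ⟨Equiv.ofFiberEquiv fun c => Fintype.equivOfCardEq (hc c),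
    funext fun i => Equiv.ofFiberEquiv_map (fun c => Fintype.equivOfCardEq (hc c)) i⟩

theorem cls_surjective : Function.Surjective (cls : (Fin n → ι) → Sym ι n) := fun s => by
  obtain ⟨l, hl⟩ := Quot.exists_rep s.1
  have hlen : l.length = n := (congrArg Multiset.card hl).trans s.2
  subst hlen
  refine ⟨l.get, Subtype.ext ?_⟩
  show Finset.univ.val.map l.get = s.1
  rw [← hl, Fin.univ_val_map, List.ofFn_get]
  rfl

/-- A word in each class. -/
noncomputable def rep (s : Sym ι n) : Fin n → ι := (cls_surjective s).choose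

theorem cls_rep (s : Sym ι n) : cls (rep s) = s := (cls_surjective s).choose_spec

variable {A : Type*} [CommRing A]

/-- The trace of a matrix on symmetric tensors of degree `n`. -/
noncomputable def T (U : Matrix ι ι A) (n : ℕ) : A :=
  ∑ s : Sym ι n, ∑ w ∈ Finset.univ.filter (fun w : Fin n → ι => cls w = s), ∏ i, U (rep s i) (w i)

/-- The identity to be proved. -/
def Master (U : Matrix ι ι A) : Prop :=
  ((U.charpolyRev : Polynomial A) : PowerSeries A) * PowerSeries.mk (T U) = 1

theorem T_map {B : Type*} [CommRing B] (f : A →+* B) (U : Matrix ι ι A) (n : ℕ) :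
    T (U.map f) n = f (T U n) := by
  simp only [T, map_sum, map_prod, Matrix.map_apply]

theorem charpolyRev_map {B : Type*} [CommRing B] (f : A →+* B) (U : Matrix ι ι A) :
    (U.map f).charpolyRev = U.charpolyRev.map f := by
  simp only [Matrix.charpolyRev]
  rw [← Polynomial.coe_mapRingHom, RingHom.map_det]
  congr 1
  ext i j : 2
  simp [Matrix.one_apply, apply_ite (Polynomial.map f)]

theorem Master.map {B : Type*} [CommRing B] (f : A →+* B) {U : Matrix ι ι A} (h : Master U) :
    Master (U.map f) := by
  have h' := congrArg (PowerSeries.map f) h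
  rw [map_mul, map_one, ← Polynomial.polynomial_map_coe] at h'
  rw [Master, charpolyRev_map]
  convert h' using 2
  ext j
  simp [T_map]

theorem Master.of_map {B : Type*} [CommRing B] (f : A →+* B) (hf : Function.Injective f) {U : Matrix ι ι A}
    (h : Master (U.map f)) : Master U := by
  refine PowerSeries.map_injective f hf ?_
  rw [map_mul, map_one, ← Polynomial.polynomial_map_coe, ← charpolyRev_map]
  refine Eq.trans ?_ h
  congr 1
  ext j
  simp [T_map]

section Tri

variable {m : ℕ}

theorem T_triangular {U : Matrix (Fin m) (Fin m) A} (hU : U.BlockTriangular id) (n : ℕ) :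
    T U n = ∑ s : Sym (Fin m) n, ((s : Multiset (Fin m)).map fun j => U j j).prod := by
  refine Finset.sum_congr rfl fun s _ => ?_
  rw [Finset.sum_eq_single (rep s)]
  · conv_rhs => rw [← cls_rep s]
    show _ = ((Finset.univ.val.map (rep s)).map fun j => U j j).prod
    rw [Multiset.map_map, Finset.prod_eq_multiset_prod]
    rfl
  · intro w hw hne
    obtain ⟨-, hw⟩ := Finset.mem_filter.mp hw
    by_contra h0
    have hle : ∀ i, rep s i ≤ w i := fun i => not_lt.mp fun hlt =>
      h0 (Finset.prod_eq_zero (Finset.mem_univ i) (hU hlt))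
    have hsum : ∑ i, ((rep s i : Fin m) : ℕ) = ∑ i, ((w i : Fin m) : ℕ) := by
      obtain ⟨σ, hσ⟩ := exists_perm ((cls_rep s).trans hw.symm)
      rw [← hσ]
      exact Equiv.sum_comp σ fun i => ((w i : Fin m) : ℕ)
    refine hne (funext fun i => Fin.ext ?_)
    exact ((Finset.sum_eq_sum_iff_of_le fun i _ => Fin.le_def.mp (hle i)).mp hsum i (Finset.mem_univ i)).symm
  · intro h
    exact absurd (cls_rep s) (by simpa using h)

theorem one_sub_mul_geom (c : A) :
    (1 - PowerSeries.C c * PowerSeries.X) * PowerSeries.mk (fun e => c ^ e) = 1 := by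
  ext e
  rcases e with _ | e
  · simp
  · rw [sub_mul, one_mul, mul_assoc, map_sub, PowerSeries.coeff_C_mul, PowerSeries.coeff_succ_X_mul,
      PowerSeries.coeff_mk, PowerSeries.coeff_mk, PowerSeries.coeff_one, if_neg (Nat.succ_ne_zero e), pow_succ']
    ring

theorem prod_geom (c : ι → A) :
    ∏ j, PowerSeries.mk (fun e => c j ^ e) =
      PowerSeries.mk fun n => ∑ s : Sym ι n, ((s : Multiset ι).map c).prod := by
  ext n
  rw [PowerSeries.coeff_prod, PowerSeries.coeff_mk]
  refine Finset.sum_bij' (fun l hl => (Sym.equivNatSum ι n).symm ⟨l, ?_⟩)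
    (fun s _ => (Sym.equivNatSum ι n s).1) ?_ ?_ ?_ ?_ ?_
  · simpa [Finsupp.sum_fintype] using (Finset.mem_finsuppAntidiag.mp hl).1
  · intros; exact Finset.mem_univ _
  · intro s _
    rw [Finset.mem_finsuppAntidiag]
    refine ⟨?_, Finset.subset_univ _⟩
    simpa [Finsupp.sum_fintype] using (Sym.equivNatSum ι n s).2
  · intro l hl
    rw [Equiv.apply_symm_apply]
  · intro s _
    exact (Sym.equivNatSum ι n).symm_apply_apply s
  · intro l hl
    simp only [PowerSeries.coeff_mk]
    rw [Finset.prod_multiset_map_count]
    refine Eq.trans ?_ (Finset.prod_subset (Finset.subset_univ _) fun j _ hj => ?_).symm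
    · refine Finset.prod_congr rfl fun j _ => ?_
      simp [Finsupp.count_toMultiset]
    · rw [Multiset.mem_toFinset, ← Multiset.count_eq_zero] at hj
      rw [hj, pow_zero]

theorem master_triangular {U : Matrix (Fin m) (Fin m) A} (hU : U.BlockTriangular id) : Master U := by
  have hdet : U.charpolyRev = ∏ j, (1 - Polynomial.C (U j j) * Polynomial.X) := by
    rw [Matrix.charpolyRev, Matrix.det_of_upperTriangular]
    · exact Finset.prod_congr rfl fun j _ => by
        rw [Matrix.sub_apply, Matrix.one_apply_eq, Matrix.smul_apply, Matrix.map_apply, smul_eq_mul, mul_comm]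
    · intro i j hij
      rw [Matrix.sub_apply, Matrix.one_apply_ne (ne_of_gt (show j < i from hij)), Matrix.smul_apply, Matrix.map_apply,
        hU hij, map_zero, smul_zero, sub_zero]
  rw [Master, hdet]
  simp only [← Polynomial.coeToPowerSeries.ringHom_apply, map_prod, map_sub, map_one, map_mul]
  simp only [Polynomial.coeToPowerSeries.ringHom_apply, Polynomial.coe_C, Polynomial.coe_X]
  rw [show (PowerSeries.mk (T U)) = ∏ j, PowerSeries.mk (fun e => U j j ^ e) from by
      rw [prod_geom]; ext n; simp [T_triangular hU], ← Finset.prod_mul_distrib]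
  exact Finset.prod_eq_one fun j _ => one_sub_mul_geom _

end Tri

end Groth.Agent.SymTr
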